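import Cfsg.Agent.E6Fi22.DataBase
import Cfsg.Agent.E6Fi22.DataGens

/-!
# Kernel checks: the generators and the nine conjugating elements
-/

set_option autoImplicit false
set_option maxRecDepth 100000
set_option Elab.async false

namespace Cfsg.Agent.E6Fi22

open Cfsg.Agent.CosetCert

theorem len_base : (List.range 21).all (fun x => (xm x).length == 78) = true ∧
    (List.range 13).all (fun x => (bm x).length == 78) = true ∧
    (List.range 10).all (fun x => (gw x).length == 78) = true ∧
    (List.range 10).all (fun x => (xg x).length == 78) = true := by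
  decide +kernel

theorem xm_ok : (List.range 20).all (fun x => Nat.blt (xs.getD x (0, 0)).1 72 &&
    (Nat.ble 1 (xs.getD x (0, 0)).2 && Nat.ble (xs.getD x (0, 0)).2 3) &&
    xChk (xs.getD x (0, 0)).1 (xs.getD x (0, 0)).2 (xm x)) = true := by
  decide +kernel

theorem bm_ok : (List.range 12).all (fun x => wordK xm (bw.getD x []) idM (fun P => eqB P (bm x)) &&
    mulK (bm x) (bm x) (fun P => eqB P idM)) = true := by
  decide +kernel

theorem gw_ok0 : (List.range 5).all (fun x => wordK bm (gwords.getD x []) idM (fun P => eqB P (gw x))) = true := by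
  decide +kernel

theorem gw_ok1 : (List.range 4).all (fun x =>
    wordK bm (gwords.getD (5 + x) []) idM (fun P => eqB P (gw (5 + x)))) = true := by
  decide +kernel

theorem xg_ok : (List.range 9).all (fun x =>
    mulK (xg x) (gw x) (fun P => mulK (gw x) (bm 0) (fun Q => eqB P Q)) &&
    mulK (xg x) (xg x) (fun P => eqB P idM)) = true := by
  decide +kernel

end Cfsg.Agent.E6Fi22
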