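import Cfsg.Agent.E6Fi22.DataGens
import Cfsg.Agent.E6Fi22.DataIrr

/-!
# Kernel checks: absolute irreducibility
-/

set_option autoImplicit false
set_option maxRecDepth 100000
set_option Elab.async false

namespace Cfsg.Agent.E6Fi22

open Cfsg.Agent.CosetCert

theorem len_irr : (pm0.length == 78 && pm1.length == 78 && pm2.length == 78 && am.length == 78 &&
    lm.length == 78 && span.length == 78 && dm.length == 78 && vsc.length == 78 && par.length == 78) = true := by
  decide +kernel

theorem pm0_ok : wordK xg pw0 idM (fun P => eqB P pm0) = true := by decide +kernel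

theorem pm1_ok : wordK xg pw1 idM (fun P => eqB P pm1) = true := by decide +kernel

theorem pm2_ok : wordK xg pw2 idM (fun P => eqB P pm2) = true := by decide +kernel

theorem am_ok : eqB am (addM (addM (pm0.map (scl pc0)) (pm1.map (scl pc1))) (pm2.map (scl pc2))) = true := by
  decide +kernel

theorem ker_ok : Nat.beq (mv am vk) 0 = true := by decide +kernel

theorem left_ok : mulK lm am (fun P => eqB idM (addM P (vsc.map fun s => scl s vk))) = true := by
  decide +kernel

theorem letters_ok : ((pw0 ++ pw1 ++ pw2).all fun x => Nat.ble 1 x && Nat.blt x 9) = true := by decide +kernel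

theorem span_ok : Nat.beq (span.getD 0 0) vk = true ∧ (List.range 77).all (fun k =>
    Nat.ble (par.getD (k + 1) (0, 0)).2 k &&
    (Nat.ble 1 (par.getD (k + 1) (0, 0)).1 && Nat.blt (par.getD (k + 1) (0, 0)).1 9) &&
    Nat.beq (mv (xg (par.getD (k + 1) (0, 0)).1) (span.getD (par.getD (k + 1) (0, 0)).2 0))
      (span.getD (k + 1) 0)) = true := by
  decide +kernel

theorem dm_ok : mulK span dm (fun P => eqB P idM) = true := by decide +kernel

end Cfsg.Agent.E6Fi22
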