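import Cfsg.Agent.E6Fi22.DataGens

/-!
# Kernel checks: the relators of `Fi22`
-/

set_option autoImplicit false
set_option maxRecDepth 100000
set_option Elab.async false

namespace Cfsg.Agent.E6Fi22

/-- The label of a pair of nodes of the graph. -/
def lbl (x y : Nat) : Nat :=
  if x = y then 1 else
    if [(0, 1), (1, 2), (2, 3), (3, 4), (3, 7), (4, 5), (5, 6), (7, 8)].contains (min x y, max x y) then 3 else 2

theorem pairs_ok : (List.range 9).all (fun x => (List.range (x + 1)).all fun y =>
    relB xg x [y] (lbl x y - 1)) = true := by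
  decide +kernel

theorem spider_ok : relB xg 3 [2, 1, 3, 4, 5, 3, 7, 8] 9 = true := by decide +kernel

theorem seven1_ok : relB xg 0 [1, 2, 3, 4, 5, 7] 8 = true := by decide +kernel

theorem seven2_ok : relB xg 1 [2, 3, 4, 5, 6, 7] 8 = true := by decide +kernel

theorem xg0_ne : eqB (xg 0) idM = false := by decide +kernel

theorem xg1_ne : eqB (xg 1) idM = false := by decide +kernel

end Cfsg.Agent.E6Fi22
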