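import Cfsg.Agent.Chev.F4InE6.Main
import Cfsg.Prelude.Def_KGroupFacts

/-!
# Three classes of an absolutely irreducible subgroup of `2E6(2)` with small outer automorphism group

The subgroups are moved by the powers of the diagonal automorphism `delta` of order three. An element
carrying one onto another would square to a scalar multiple of a nontrivial power of `delta` times an
element of the group, and no such element exists.
-/

set_option autoImplicit false
set_option maxRecDepth 100000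

namespace Cfsg.Agent.E6Fi22

open Cfsg.Lie Cfsg.Agent.Chev
open scoped MatrixGroups

universe u v

variable {K : Type u} [Field K]

theorem delta_pow_diag (ω : Kˣ) : ∀ k : ℕ,
    (Chev.F4InE6.delta ω) ^ k = diagG fun s : Fin chevE6.nroots => (ω ^ Chev.F4InE6.eN s) ^ k
  | 0 => by
    apply Units.ext
    show (1 : Matrix chevE6.Idx chevE6.Idx K) = Matrix.diagonal _
    rw [← Matrix.diagonal_one]
    congr 1; funext a
    rcases a with j | s <;> simp
  | k + 1 => by
    rw [pow_succ, delta_pow_diag ω k, Chev.F4InE6.delta, diagG_mul]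
    congr 1; funext s
    exact (pow_succ _ _).symm

/-- No element of the group is a scalar times a nontrivial power of `delta`. -/
theorem no_scalar_delta [CharP K 2] [Fintype K] (h3 : ∀ x : Kˣ, x ^ 3 = 1) {ω : Kˣ} (hω1 : ω ≠ 1)
    {γ : GL chevE6.Idx K} (hγ : γ ∈ chevE6.group K) {k : ℕ} (hk : k % 3 ≠ 0) {l : K}
    (hl : (γ : Matrix chevE6.Idx chevE6.Idx K) =
      l • ((Chev.F4InE6.delta ω ^ k : GL chevE6.Idx K) : Matrix chevE6.Idx chevE6.Idx K)) : False := by
  have hω : ω ^ 3 = 1 := h3 ω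
  have hE := facts_chevE6.{u}
  set d : GL chevE6.Idx K := Chev.F4InE6.delta ω ^ k with hd
  set u := Chev.F4InE6.emb K Chev.F4InE6.reg with hu
  have hconj : γ * u * γ⁻¹ = d * u * d⁻¹ := by
    rw [mul_inv_eq_iff_eq_mul]
    apply Units.ext
    simp only [Units.val_mul, hl, Matrix.mul_smul, Matrix.smul_mul]
    congr 1
    simp only [← Units.val_mul, inv_mul_cancel_right]
  have hscale : ∀ i : Fin chevE6.rank, SimpleCoef hE i (d * u * d⁻¹)
      ((ω ^ (k * Chev.F4InE6.eN (chevE6.simple i)) : Kˣ) : K) := fun i => by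
    have := SimpleCoef.scale (f := fun r => ((ω ^ (k * Chev.F4InE6.eN r) : Kˣ) : K))
      (fun r hr x => Chev.F4InE6.delta_pow_conj hω k hr x) (Chev.F4InE6.reg_coef K i)
    rwa [mul_one] at this
  have hB : γ ∈ chevE6.borelSubgroup K := by
    refine mem_borel_of_regular hE hγ (u := u)
      (fun i => ⟨1, one_ne_zero, Chev.F4InE6.reg_coef K i⟩)
      (Chev.F4InE6.reg_coef K ⟨0, by decide +kernel⟩).mem ?_
    rw [hconj]
    exact (hscale ⟨0, by decide +kernel⟩).mem
  obtain ⟨x, hx, c, hc⟩ := (mem_borel_iff hE).1 hB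
  have hxd : ∀ a, (x : Matrix chevE6.Idx chevE6.Idx K) a a = 1 := fun a => by
    have := (posUnipotent_le_lowerGroup hE hx).1 a a (by omega)
    rwa [Matrix.sub_apply, Matrix.one_apply_eq, sub_eq_zero] at this
  have hdiag : ∀ a, (γ : Matrix chevE6.Idx chevE6.Idx K) a a =
      Sum.elim (fun _ => (1 : K)) (fun s : Fin chevE6.nroots => (chiU c s : K)) a := fun a => by
    rw [hc, Units.val_mul, Matrix.mul_apply, Finset.sum_eq_single a]
    · rw [hxd, torusHom_apply, if_pos rfl, one_mul]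
    · intro b _ hb; rw [torusHom_apply, if_neg hb, mul_zero]
    · intro h; exact absurd (Finset.mem_univ _) h
  have hdd : ∀ a, (γ : Matrix chevE6.Idx chevE6.Idx K) a a =
      l * Sum.elim (fun _ => (1 : K))
        (fun s : Fin chevE6.nroots => (((ω ^ Chev.F4InE6.eN s) ^ k : Kˣ) : K)) a := fun a => by
    rw [hl, Matrix.smul_apply, hd, delta_pow_diag, smul_eq_mul]
    congr 1
    exact Matrix.diagonal_apply_eq _ a
  have hl1 : l = 1 := by
    have := (hdd (Sum.inl ⟨0, by decide +kernel⟩)).symm.trans (hdiag _)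
    simpa using this
  refine Chev.F4InE6.not_inner hω h3 hω1 (k := 2 * k) (by omega) c fun p => ?_
  have hp := hE.simple_lt p p.2
  have := (hdd (Sum.inr ⟨chevE6.simple p, hp⟩)).symm.trans (hdiag _)
  simp only [hl1, one_mul, Sum.elim_inr] at this
  rw [← Units.ext this, ← pow_mul, ← pow_add, Chev.F4InE6.pow_mod3 hω (b := 0)]
  · rw [pow_zero]
  · rw [show Chev.F4InE6.eN (chevE6.simple ↑p) * k + 2 * k * Chev.F4InE6.eN (chevE6.simple ↑p) =
      3 * (k * Chev.F4InE6.eN (chevE6.simple ↑p)) by ring]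
    omega

variable {X : Type v} [Group X]

/-- A group whose outer automorphism group has order two has all squares of automorphisms inner. -/
theorem sq_inner (h : Nat.card (Cfsg.Out X) = 2) (α : MulAut X) :
    ∃ x : X, α * α = MulAut.conj x := by
  have h2 : ((α : Cfsg.Out X)) ^ 2 = 1 := h ▸ pow_card_eq_one'
  rw [← QuotientGroup.mk_pow, QuotientGroup.eq_one_iff, pow_two] at h2
  obtain ⟨x, hx⟩ := h2
  exact ⟨x, hx.symm⟩

/-- The three subgroups. -/
theorem exists_three_of_irreducible [Fintype K] (hK : Fintype.card K = 4)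
    (f : X →* GL chevE6.Idx K) (hinj : Function.Injective f) (hmem : ∀ y, f y ∈ twistedE6 K 2)
    (hirr : ∀ C : Matrix chevE6.Idx chevE6.Idx K,
      (∀ y, Commute C (f y : Matrix chevE6.Idx chevE6.Idx K)) → ∃ l : K, C = l • 1)
    (hout : Nat.card (Cfsg.Out X) = 2) :
    ∃ H : Fin 3 → Subgroup (twistedE6 K 2), (∀ i, Nonempty (↥(H i) ≃* X)) ∧
      ∀ i j, i ≠ j → ∀ g : twistedE6 K 2, (H i).map (MulAut.conj g).toMonoidHom ≠ H j := by
  classical
  haveI : Fact (Nat.Prime 2) := ⟨Nat.prime_two⟩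
  haveI : CharP K 2 := charP_of_card_eq_prime_pow (f := 2) (by rw [hK]; norm_num)
  obtain ⟨φ, hφ, -, hqφ, e⟩ := exists_twistE6 (K := K) (q := 2)
    Nat.prime_two.isPrimePow (by rw [hK]; norm_num)
  have hsq : ∀ t : K, φ t = t ^ 2 := fun t => by
    have := hqφ 1 t
    rwa [pow_one, pow_one] at this
  have h3 : ∀ x : Kˣ, x ^ 3 = 1 := fun x => by
    have hc : Fintype.card Kˣ = 3 := by rw [Fintype.card_units, hK]
    exact hc ▸ pow_card_eq_one
  obtain ⟨ω, hω1⟩ : ∃ ω : Kˣ, ω ≠ 1 :=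
    Fintype.exists_ne_of_one_lt_card (by rw [Fintype.card_units, hK]; norm_num) 1
  have hω : ω ^ 3 = 1 := h3 ω
  set δ : GL chevE6.Idx K := Chev.F4InE6.delta ω with hδ
  have hδG : ∀ (n : ℕ) {g : GL chevE6.Idx K}, g ∈ twistedE6 K 2 →
      δ ^ n * g * (δ ^ n)⁻¹ ∈ twistedE6 K 2 := fun n g hg => by
    rw [← e] at hg ⊢
    exact Chev.F4InE6.delta_G1 hω hsq n hg
  let F : Fin 3 → (X →* twistedE6 K 2) := fun i =>
    ((MulAut.conj (δ ^ (i : ℕ))).toMonoidHom.comp f).codRestrict _ fun y => hδG i (hmem y)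
  have hFinj : ∀ i, Function.Injective (F i) := fun i a b h =>
    hinj ((MulAut.conj (δ ^ (i : ℕ))).injective (congrArg Subtype.val h))
  refine ⟨fun i => (F i).range, fun i => ⟨(MonoidHom.ofInjective (hFinj i)).symm⟩, fun i j hij g hg => ?_⟩
  have hgrp : ∀ {x : GL chevE6.Idx K}, x ∈ twistedE6 K 2 → x ∈ chevE6.group K := fun {x} hx => by
    rw [← e] at hx
    exact (twistE6 K φ hφ).G1_le_group hx
  have h3δ : δ ^ 3 = 1 := Chev.F4InE6.delta_pow_three hω
  have hinv : (δ ^ (j : ℕ))⁻¹ = δ ^ (2 * (j : ℕ)) := by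
    refine inv_eq_of_mul_eq_one_right ?_
    rw [← pow_add, show (j : ℕ) + 2 * j = 3 * j by ring, pow_mul, h3δ, one_pow]
  set c : GL chevE6.Idx K := (δ ^ (j : ℕ))⁻¹ * (g : GL chevE6.Idx K) * δ ^ (i : ℕ) with hc
  have hcmap : f.range.map (MulAut.conj c).toMonoidHom = f.range := by
    have h1 : ∀ y, ∃ z, f z = c * f y * c⁻¹ := fun y => by
      have : g * F i y * g⁻¹ ∈ (F j).range := by
        show _ ∈ (fun i => (F i).range) j
        rw [← hg]
        exact ⟨F i y, ⟨y, rfl⟩, rfl⟩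
      obtain ⟨z, hz⟩ := this
      refine ⟨z, ?_⟩
      have hz' : δ ^ (j : ℕ) * f z * (δ ^ (j : ℕ))⁻¹ =
          (g : GL chevE6.Idx K) * (δ ^ (i : ℕ) * f y * (δ ^ (i : ℕ))⁻¹) * (g : GL chevE6.Idx K)⁻¹ :=
        congrArg Subtype.val hz
      rw [show f z = (δ ^ (j : ℕ))⁻¹ * (δ ^ (j : ℕ) * f z * (δ ^ (j : ℕ))⁻¹) * δ ^ (j : ℕ) by group,
        hz', hc]
      group
    have h2 : ∀ z, ∃ y, f z = c * f y * c⁻¹ := fun z => by
      have : F j z ∈ ((fun i => (F i).range) i).map (MulAut.conj g).toMonoidHom := by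
        rw [hg]; exact ⟨z, rfl⟩
      obtain ⟨_, ⟨y, rfl⟩, hy⟩ := this
      refine ⟨y, ?_⟩
      have hz' : (g : GL chevE6.Idx K) * (δ ^ (i : ℕ) * f y * (δ ^ (i : ℕ))⁻¹) * (g : GL chevE6.Idx K)⁻¹ =
          δ ^ (j : ℕ) * f z * (δ ^ (j : ℕ))⁻¹ := congrArg Subtype.val hy
      rw [show f z = (δ ^ (j : ℕ))⁻¹ * (δ ^ (j : ℕ) * f z * (δ ^ (j : ℕ))⁻¹) * δ ^ (j : ℕ) by group,
        ← hz', hc]
      group
    refine le_antisymm ?_ ?_
    · rintro _ ⟨_, ⟨y, rfl⟩, rfl⟩
      exact h1 y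
    · rintro _ ⟨z, rfl⟩
      obtain ⟨y, hy⟩ := h2 z
      exact ⟨f y, ⟨y, rfl⟩, hy.symm⟩
  let E : X ≃* f.range := MonoidHom.ofInjective hinj
  let α : MulAut X := (E.trans (((MulAut.conj c).subgroupMap f.range).trans
    (MulEquiv.subgroupCongr hcmap))).trans E.symm
  have hα : ∀ y, f (α y) = c * f y * c⁻¹ := fun y =>
    congrArg Subtype.val (E.apply_symm_apply
      ((((MulAut.conj c).subgroupMap f.range).trans (MulEquiv.subgroupCongr hcmap)) (E y)))
  obtain ⟨x, hx⟩ := sq_inner hout α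
  obtain ⟨l, hl⟩ := hirr (((f x)⁻¹ * (c * c) : GL chevE6.Idx K)) fun y => by
    have h2 : c * c * f y * (c * c)⁻¹ = f x * f y * (f x)⁻¹ := by
      rw [← map_inv, ← map_mul, ← map_mul, show x * y * x⁻¹ = (α * α) y by rw [hx]; rfl,
        MulAut.mul_apply, hα, hα]
      group
    have h4 : (f x)⁻¹ * (c * c) * f y = f y * ((f x)⁻¹ * (c * c)) := by
      calc (f x)⁻¹ * (c * c) * f y = (f x)⁻¹ * (c * c * f y * (c * c)⁻¹) * (c * c) := by group
        _ = f y * ((f x)⁻¹ * (c * c)) := by rw [h2]; group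
    show _ * _ = _ * _
    rw [← Units.val_mul, ← Units.val_mul, h4]
  set n : ℕ := (i : ℕ) + 2 * j with hn
  set g₁ : GL chevE6.Idx K := δ ^ (2 * (j : ℕ)) * (g : GL chevE6.Idx K) * (δ ^ (2 * (j : ℕ)))⁻¹ with hg₁
  have hcn : c = g₁ * δ ^ n := by
    rw [hc, hinv, hg₁, hn, Nat.add_comm, pow_add]
    group
  clear_value n g₁
  set γ : GL chevE6.Idx K := (f x)⁻¹ * g₁ * (δ ^ n * g₁ * (δ ^ n)⁻¹) with hγdef
  have hγ : γ ∈ chevE6.group K := by
    have hg1 : g₁ ∈ twistedE6 K 2 := hg₁ ▸ hδG _ g.2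
    exact hgrp (mul_mem (mul_mem (inv_mem (hmem x)) hg1) (hδG n hg1))
  have hfin : (f x)⁻¹ * (c * c) = γ * δ ^ (2 * n) := by
    rw [hcn, hγdef, two_mul, pow_add]
    generalize δ ^ n = d
    group
  clear_value γ
  have hn3 : n % 3 ≠ 0 := by
    have := i.2; have := j.2
    have : (i : ℕ) ≠ j := fun h => hij (Fin.ext h)
    omega
  refine no_scalar_delta h3 hω1 hγ hn3 (l := l) ?_
  rw [hfin, Units.val_mul] at hl
  have hone : δ ^ (2 * n) * δ ^ n = 1 := by
    rw [← pow_add, show 2 * n + n = 3 * n by ring, pow_mul, h3δ, one_pow]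
  calc (γ : Matrix chevE6.Idx chevE6.Idx K)
      = (γ : Matrix chevE6.Idx chevE6.Idx K) * ((δ ^ (2 * n) * δ ^ n : GL chevE6.Idx K) : _) := by
        rw [hone, Units.val_one, mul_one]
    _ = l • ((δ ^ n : GL chevE6.Idx K) : Matrix chevE6.Idx chevE6.Idx K) := by
        rw [Units.val_mul, ← mul_assoc, hl, Matrix.smul_mul, one_mul]

end Cfsg.Agent.E6Fi22
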