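import Cfsg.Agent.E6Fi22.Rep
import Cfsg.Agent.E6Fi22.Three
import Cfsg.Agent.Fi22Out.Main

/-!
# Three classes of `Fi22` in `2E6(2)`
-/

set_option autoImplicit false
set_option maxRecDepth 100000

namespace Cfsg.Agent.E6Fi22

open Cfsg.Lie Cfsg.Spor
open scoped MatrixGroups

universe u

variable {K : Type u} [Field K] [Fintype K]

omit [Field K] [Fintype K] in
theorem num_surj : ∀ x : Fin 9, ∃ a : Fi22.Gen, num a = x
  | 0 => ⟨.a, rfl⟩
  | 1 => ⟨.b, rfl⟩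
  | 2 => ⟨.c, rfl⟩
  | 3 => ⟨.d, rfl⟩
  | 4 => ⟨.e, rfl⟩
  | 5 => ⟨.f, rfl⟩
  | 6 => ⟨.g, rfl⟩
  | 7 => ⟨.h, rfl⟩
  | 8 => ⟨.i, rfl⟩

theorem exists_w (hK : Fintype.card K = 4) : ∃ w : K, w ^ 2 = w + 1 := by
  classical
  haveI : Fact (Nat.Prime 2) := ⟨Nat.prime_two⟩
  haveI : CharP K 2 := charP_of_card_eq_prime_pow (f := 2) (by rw [hK]; norm_num)
  have hc : Fintype.card Kˣ = 3 := by rw [Fintype.card_units, hK]
  obtain ⟨x, hx⟩ : ∃ x : Kˣ, x ≠ 1 := Fintype.exists_ne_of_one_lt_card (by omega) 1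
  have h3 : (x : K) ^ 3 = 1 := by
    rw [← Units.val_pow_eq_pow_val, ← Units.val_one, ← hc, pow_card_eq_one]
  refine ⟨x, ?_⟩
  have hx1 : (x : K) - 1 ≠ 0 := sub_ne_zero.2 fun e => hx (Units.ext e)
  have : ((x : K) - 1) * ((x : K) ^ 2 + x + 1) = 0 := by
    linear_combination h3
  have h := (mul_eq_zero.1 this).resolve_left hx1
  linear_combination h - CharTwo.add_self_eq_zero (x : K) - CharTwo.add_self_eq_zero (1 : K)

theorem three_fi22 (hK : Fintype.card K = 4) :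
    ∃ H : Fin 3 → Subgroup (twistedE6 K 2), (∀ i, Nonempty (↥(H i) ≃* Fi22)) ∧
      ∀ i j, i ≠ j → ∀ g : twistedE6 K 2, (H i).map (MulAut.conj g).toMonoidHom ≠ H j := by
  haveI : Fact (Nat.Prime 2) := ⟨Nat.prime_two⟩
  haveI : CharP K 2 := charP_of_card_eq_prime_pow (f := 2) (by rw [hK]; norm_num)
  obtain ⟨w, hw⟩ := exists_w hK
  obtain ⟨f, hinj, hmem, hof⟩ := exists_hom hw
  refine exists_three_of_irreducible hK f hinj hmem (fun C hC => irreducible hw fun x _ => ?_)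
    Fi22Out.card_out
  obtain ⟨a, rfl⟩ := num_surj x
  rw [← hof]
  exact hC _

end Cfsg.Agent.E6Fi22
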