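import Cfsg.Agent.E6Fi22.Packed
import Cfsg.Agent.Chev.Check.E6

/-!
# Packed matrices as matrices indexed by the basis of the Lie algebra of type `E₆`
-/

set_option autoImplicit false

namespace Cfsg.Agent.E6Fi22

open Cfsg.Lie Cfsg.Agent.Chev

theorem dim_e6 : chevE6.rank + chevE6.nroots = 78 := by decide +kernel

theorem enc_lt78 (i : chevE6.Idx) : enc chevE6 i < 78 := dim_e6 ▸ enc_lt chevE6 i

variable {K : Type*} [Field K]

/-- The matrix of a list of columns. -/
def toMat (w : K) (M : List Nat) : Matrix chevE6.Idx chevE6.Idx K :=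
  Matrix.of fun i j => val w (M.getD (enc chevE6 j) 0) (enc chevE6 i)

/-- The vector of a column. -/
def toVec (w : K) (P : Nat) : chevE6.Idx → K := fun i => val w P (enc chevE6 i)

theorem sum_enc (f : Nat → K) : ∑ i : chevE6.Idx, f (enc chevE6 i) = ∑ k ∈ Finset.range 78, f k := by
  refine Finset.sum_bij (fun i _ => enc chevE6 i) (fun i _ => Finset.mem_range.2 (enc_lt78 i))
    (fun a _ b _ h => enc_injective chevE6 h) (fun k hk => ?_) fun _ _ => rfl
  obtain ⟨i, hi⟩ := exists_enc chevE6 (c := k) (by rw [dim_e6]; exact Finset.mem_range.1 hk)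
  exact ⟨i, Finset.mem_univ _, hi⟩

variable [CharP K 2] {w : K} (hw : w ^ 2 = w + 1)

include hw in
theorem toVec_mv {M : List Nat} (hM : M.length = 78) (v : Nat) :
    toVec w (mv M v) = (toMat w M).mulVec (toVec w v) := by
  funext i
  show val w (mv M v) _ = _
  rw [mv_spec hw hM v (enc_lt78 i), ← sum_enc (fun k => val w (M.getD k 0) (enc chevE6 i) * val w v k)]
  rfl

include hw in
theorem toMat_mul {A B : List Nat} (hA : A.length = 78) (hB : B.length = 78) :
    toMat w (B.map (mv A)) = toMat w A * toMat w B := by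
  ext i j
  have hj : enc chevE6 j < B.length := hB.symm ▸ enc_lt78 j
  show val w ((B.map (mv A)).getD (enc chevE6 j) 0) _ = _
  rw [List.getD_eq_getElem _ _ (by simpa using hj), List.getElem_map]
  have h := congrFun (toVec_mv hw hA (B[enc chevE6 j])) i
  rw [show val w (mv A B[enc chevE6 j]) (enc chevE6 i) = toVec w (mv A B[enc chevE6 j]) i from rfl, h]
  simp only [Matrix.mulVec, dotProduct, Matrix.mul_apply]
  refine Finset.sum_congr rfl fun k _ => ?_
  show _ = _ * val w (B.getD (enc chevE6 j) 0) _
  rw [List.getD_eq_getElem _ _ hj]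
  rfl

omit [CharP K 2] in
theorem toMat_idM (w : K) : toMat w idM = 1 := by
  ext i j
  show val w (idM.getD (enc chevE6 j) 0) _ = _
  rw [val_idM w (enc_lt78 j) (enc_lt78 i), Matrix.one_apply]
  by_cases h : i = j
  · subst h; simp
  · rw [if_neg h, if_neg fun e => h (enc_injective chevE6 e)]

theorem toMat_addM {A B : List Nat} (hA : A.length = 78) (hB : B.length = 78) :
    toMat w (addM A B) = toMat w A + toMat w B := by
  ext i j
  show val w ((List.zipWith Nat.xor A B).getD (enc chevE6 j) 0) _ = _
  rw [List.getD_eq_getElem _ _ (by simp [hA, hB, enc_lt78 j]), List.getElem_zipWith, val_xor]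
  show _ = val w (A.getD (enc chevE6 j) 0) _ + val w (B.getD (enc chevE6 j) 0) _
  rw [List.getD_eq_getElem _ _ (hA.symm ▸ enc_lt78 j), List.getD_eq_getElem _ _ (hB.symm ▸ enc_lt78 j)]

include hw in
theorem toMat_scl (s : Nat) {A : List Nat} (hA : A.length = 78) :
    toMat w (A.map (scl s)) = sval w s • toMat w A := by
  ext i j
  show val w ((A.map (scl s)).getD (enc chevE6 j) 0) _ = sval w s * val w (A.getD (enc chevE6 j) 0) _
  have hj : enc chevE6 j < A.length := hA.symm ▸ enc_lt78 j
  rw [List.getD_eq_getElem _ _ (by simpa using hj), List.getElem_map, List.getD_eq_getElem _ _ hj,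
    val_scl hw s _ (enc_lt78 i)]

/-- Lists of the right length. -/
def Good (G : Nat → List Nat) : Prop := ∀ x, (G x).length = 78

include hw in
theorem wordK_spec {α : Type} {G : Nat → List Nat} (hG : Good G) :
    ∀ (l : List Nat) (P : List Nat) (k : List Nat → α), P.length = 78 →
    ∃ Q, Q.length = 78 ∧ toMat w Q = toMat w P * (l.map fun x => toMat w (G x)).prod ∧
      wordK G l P k = k Q
  | [], P, k, h => ⟨P, h, by simp, rfl⟩
  | x :: l, P, k, h => by
    obtain ⟨Q, hQ, hQm, hQk⟩ := wordK_spec hG l ((G x).map (mv P)) k (by rw [List.length_map, hG x])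
    refine ⟨Q, hQ, by rw [hQm, toMat_mul hw h (hG x), List.map_cons, List.prod_cons, mul_assoc], ?_⟩
    show mulK P (G x) (fun P' => wordK G l P' k) = _
    rw [mulK_eq]
    exact hQk

include hw in
theorem wordB_spec {G : Nat → List Nat} (hG : Good G) {l : List Nat} {A : List Nat}
    (h : wordK G l idM (fun P => eqB P A) = true) :
    toMat w A = (l.map fun x => toMat w (G x)).prod := by
  obtain ⟨Q, -, hQm, hQk⟩ := wordK_spec hw hG l idM (fun P => eqB P A) idM_length
  rw [hQk] at h
  rw [eqB_spec Q A h, hQm, toMat_idM, one_mul]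

include hw in
theorem powB_spec : ∀ (m : Nat) (P Q : List Nat), P.length = 78 → Q.length = 78 →
    powB P m Q = true → toMat w Q * toMat w P ^ m = 1
  | 0, P, Q, _, _, h => by
    rw [pow_zero, mul_one, ← toMat_idM w, ← eqB_spec Q idM h]
  | m + 1, P, Q, hP, hQ, h => by
    change mulK Q P (fun Q' => powB P m Q') = true at h
    rw [mulK_eq] at h
    rw [pow_succ', ← mul_assoc, ← toMat_mul hw hQ hP]
    exact powB_spec m P _ hP (by rw [List.length_map, hP]) h

include hw in
theorem rel_spec {G : Nat → List Nat} (hG : Good G) {x : Nat} {l : List Nat} {m : Nat}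
    (h : relB G x l m = true) : ((x :: l).map fun x => toMat w (G x)).prod ^ (m + 1) = 1 := by
  obtain ⟨P, hP, hPm, hPk⟩ := wordK_spec hw hG l (G x) (fun P => powB P m P) (hG x)
  rw [relB, hPk] at h
  have h2 := powB_spec hw m P P hP hP h
  rw [← pow_succ', hPm] at h2
  rw [List.map_cons, List.prod_cons]
  exact h2

/-- The coded scalar to a power. -/
def sPow (s p : Nat) : Nat :=
  if s = 1 then 1 else [1, 2, 3].getD ((if s = 2 then p else 2 * p) % 3) 0

/-- One entry. -/
noncomputable def ent (row s : Nat) : Nat := scl s (Nat.shiftLeft 1 row)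

/-- A packed column from the list of (row, power of the parameter, coefficient). -/
noncomputable def packL (s : Nat) (L : List (Nat × Nat × Int)) : Nat :=
  List.rec (motive := fun _ => Nat) 0
    (fun q _ ih => Nat.xor (cond (Nat.beq (Nat.mod q.2.2.natAbs 2) 0) 0 (cond (Nat.blt q.1 78) (ent q.1 (sPow s q.2.1)) 0)) ih) L

/-- The column `c` of `x_r(t)`, the parameter coded by `s`. -/
noncomputable def xCol (r s c : Nat) : Nat :=
  Nat.xor (Nat.shiftLeft 1 c) (packL s (colOf chevE6 e6Cert.T r c))

/-- The check that `A` is the matrix `x_r(t)`. -/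
noncomputable def xChk (r s : Nat) (A : List Nat) : Bool :=
  eqB A ((List.range 78).map (xCol r s))

include hw in
theorem w_cube : w ^ 3 = 1 := by
  linear_combination (w + 1) * hw + CharTwo.add_self_eq_zero w

include hw in
theorem sval_sPow {s : Nat} (hs : s = 1 ∨ s = 2 ∨ s = 3) (p : Nat) : sval w (sPow s p) = sval w s ^ p := by
  have key : ∀ q, sval w ([1, 2, 3].getD (q % 3) 0) = w ^ q := by
    intro q
    conv_rhs => rw [← Nat.mod_add_div q 3, pow_add, pow_mul, w_cube hw, one_pow, mul_one]
    rcases (show q % 3 = 0 ∨ q % 3 = 1 ∨ q % 3 = 2 by omega) with h | h | h <;>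
      rw [h] <;> simp [sval, Nat.testBit_succ, hw, add_comm]
  rcases hs with rfl | rfl | rfl
  · simp [sPow, sval, Nat.testBit_succ]
  · rw [sPow, if_neg (by decide), if_pos rfl, key]
    simp [sval, Nat.testBit_succ]
  · rw [sPow, if_neg (by decide), if_neg (by decide), key, pow_mul, hw]
    simp [sval, Nat.testBit_succ, add_comm]

theorem val_one_shift (w : K) {row i : Nat} (hr : row < 78) :
    val w (Nat.shiftLeft 1 row) i = if i = row then 1 else 0 := by
  change val w (1 <<< row) i = _
  simp only [Nat.one_shiftLeft, val, Nat.testBit_two_pow, show row ≠ 78 + i by omega, decide_false,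
    bv_false, zero_mul, add_zero]
  by_cases h : i = row
  · subst h; simp
  · simp [h, Ne.symm h]

theorem int_cast_parity (z : Int) : ((z : Int) : K) = if z.natAbs % 2 = 0 then 0 else 1 := by
  split
  · rename_i h
    exact (CharP.intCast_eq_zero_iff K 2 z).2 (by omega)
  · rename_i h
    obtain ⟨k, rfl⟩ : ∃ k, z = 2 * k + 1 := ⟨z / 2, by omega⟩
    rw [Int.cast_add, Int.cast_one, (CharP.intCast_eq_zero_iff K 2 (2 * k)).2 ⟨k, rfl⟩, zero_add]

include hw in
theorem val_packL {s : Nat} (hs : s = 1 ∨ s = 2 ∨ s = 3) {i : Nat} (hi : i < 78) :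
    ∀ L : List (Nat × Nat × Int), val w (packL s L) i = colVal (sval w s) i L
  | [] => val_zero w i
  | (row, p, z) :: L => by
    show val w (Nat.xor (cond (Nat.beq (Nat.mod z.natAbs 2) 0) 0
      (cond (Nat.blt row 78) (ent row (sPow s p)) 0)) (packL s L)) i = _
    rw [val_xor, val_packL hs hi L, colVal]
    congr 1
    change val w (cond (Nat.beq (z.natAbs % 2) 0) 0 (cond (Nat.blt row 78) (ent row (sPow s p)) 0)) i = _
    rw [int_cast_parity]
    rcases Nat.mod_two_eq_zero_or_one z.natAbs with h | h <;> rw [h]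
    · simp [val_zero]
    · rw [show Nat.beq 1 0 = false from rfl, cond_false, if_neg one_ne_zero, one_mul]
      by_cases hrow : row < 78
      · rw [show Nat.blt row 78 = true from Nat.ble_eq_true_of_le hrow, cond_true, ent, val_scl hw _ _ hi, val_one_shift w hrow, sval_sPow hw hs]
        by_cases h' : i = row
        · simp [h']
        · simp [h', Ne.symm h']
      · rw [show Nat.blt row 78 = false from Bool.eq_false_iff.2 fun e => hrow (Nat.le_of_ble_eq_true e),
          cond_false, val_zero, if_neg (by omega)]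

include hw in
theorem xChk_spec {r s : Nat} (hr : r < chevE6.nroots) (hs : s = 1 ∨ s = 2 ∨ s = 3) {A : List Nat}
    (h : xChk r s A = true) : toMat w A = chevE6.x K r (sval w s) := by
  rw [← eqB_spec A _ h]
  ext i j
  rw [x_apply e6_checks.tab K hr]
  show val w (((List.range 78).map (xCol r s)).getD (enc chevE6 j) 0) _ = _
  rw [List.getD_eq_getElem _ _ (by simp [enc_lt78 j]), List.getElem_map, List.getElem_range, xCol,
    val_xor, val_one_shift w (enc_lt78 j), val_packL hw hs (enc_lt78 i)]
  by_cases h' : i = j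
  · subst h'; simp
  · rw [if_neg h', if_neg fun e => h' (enc_injective chevE6 e)]

end Cfsg.Agent.E6Fi22
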