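import Cfsg.Agent.E6Fi22.Main
import Cfsg.Agent.CosetCert.O73.Iso
import Cfsg.Agent.O73.Group
import Cfsg.Agent.AutPOmega.Odd

/-!
# Three classes of `Omega 7 3` in `2E6(2)`
-/

set_option autoImplicit false
set_option maxRecDepth 100000

namespace Cfsg.Agent.E6Fi22

open Cfsg.Lie Cfsg.Spor
open scoped MatrixGroups

universe u

local notation "PO73" => Cfsg.POmega (ZMod 3) (Cfsg.quadFormOdd 3 (ZMod 3))

theorem card_out_pomega73 : Nat.card (Cfsg.Out PO73) = 2 := by
  haveI : Fact (Nat.Prime 3) := ⟨Nat.prime_three⟩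
  have hF : Fintype.card (ZMod 3) = 3 ^ 1 := by rw [ZMod.card, pow_one]
  have hF2 : Odd (Fintype.card (ZMod 3)) := by rw [ZMod.card]; decide
  obtain ⟨hcyc, hgal⟩ := Agent.AutPSL.card_gal (F := ZMod 3) le_rfl hF
  obtain ⟨e⟩ := Agent.AutPOmega.out_odd (F := ZMod 3) hF2 (le_refl 3)
  rw [Nat.card_congr e.toEquiv, Nat.card_prod, hgal]
  simp

variable {K : Type u} [Field K] [Fintype K]

theorem three_omega73 (hK : Fintype.card K = 4) :
    ∃ H : Fin 3 → Subgroup (twistedE6 K 2),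
      (∀ i, Nonempty (↥(H i) ≃* Cfsg.Omega (ZMod 3) (Cfsg.quadFormOdd 3 (ZMod 3)))) ∧
      ∀ i j, i ≠ j → ∀ g : twistedE6 K 2, (H i).map (MulAut.conj g).toMonoidHom ≠ H j := by
  haveI : Fact (Nat.Prime 2) := ⟨Nat.prime_two⟩
  haveI : CharP K 2 := charP_of_card_eq_prime_pow (f := 2) (by rw [hK]; norm_num)
  obtain ⟨w, hw⟩ := exists_w hK
  obtain ⟨f, hinj, hmem, hof⟩ := exists_hom hw
  obtain ⟨e⟩ := CosetCert.O73.subgroup_iso
  let ι : PO73 →* Fi22 := (Subgroup.subtype _).comp e.symm.toMonoidHom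
  have hι : Function.Injective ι := Subtype.val_injective.comp e.symm.injective
  have hbase : ∀ a : Fi22.Gen, num a ≠ 0 → ∃ y, ι y = PresentedGroup.of a := fun a ha => by
    refine ⟨e ⟨PresentedGroup.of a, ⟨FreeGroup.of a, Subgroup.subset_closure ?_, rfl⟩⟩, ?_⟩
    · cases a <;> first | exact absurd rfl ha | simp [CosetCert.Fi22Index14080.subGens]
    · simp [ι]
  obtain ⟨H, h1, h2⟩ := exists_three_of_irreducible hK (f.comp ι) (hinj.comp hι)
    (fun y => hmem _) (fun C hC => irreducible hw fun x hx => by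
      obtain ⟨a, rfl⟩ := num_surj x
      obtain ⟨y, hy⟩ := hbase a hx
      rw [← hof, ← hy]
      exact hC y) card_out_pomega73
  refine ⟨H, fun i => ?_, h2⟩
  obtain ⟨E⟩ := h1 i
  exact ⟨E.trans ((QuotientGroup.quotientMulEquivOfEq O73.center_Om).trans QuotientGroup.quotientBot)⟩

end Cfsg.Agent.E6Fi22
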