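import Cfsg.Agent.CosetCert.Basic
import Mathlib.Data.Nat.Bitwise
import Mathlib.Algebra.CharP.Two
import Mathlib.Data.Matrix.Mul
import Mathlib.LinearAlgebra.Matrix.NonsingularInverse

/-!
# Packed matrices over the field with four elements

A column with 78 entries is a number with two bit planes: entry `i` is `bit i + bit (78 + i) * w`, where
`w ^ 2 = w + 1`.
-/

set_option autoImplicit false

namespace Cfsg.Agent.E6Fi22

open Cfsg.Agent.CosetCert

/-- The low plane. -/
def mask78 : Nat := 302231454903657293676543

theorem mask78_eq : mask78 = 2 ^ 78 - 1 := by norm_num [mask78]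

theorem mask_bit (i : Nat) : mask78.testBit i = decide (i < 78) := by
  rw [mask78_eq, Nat.testBit_two_pow_sub_one]

/-- Multiplication of a column by `w`. -/
noncomputable def omg (P : Nat) : Nat :=
  Nat.xor (Nat.land (Nat.shiftRight P 78) mask78)
    (Nat.shiftLeft (Nat.land (Nat.xor P (Nat.shiftRight P 78)) mask78) 78)

/-- The sum of the columns of `M` selected by the bits of `v`. -/
noncomputable def comb (M : List Nat) (v acc : Nat) : Nat :=
  List.rec (motive := fun _ => Nat → Nat → Nat) (fun _ acc => acc)
    (fun c _ ih v acc => force (cond (Nat.beq (Nat.mod v 2) 0) acc (Nat.xor acc c)) fun a =>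
      force (Nat.div v 2) fun v' => ih v' a)
    M v acc

/-- A matrix applied to a column. -/
noncomputable def mv (M : List Nat) (v : Nat) : Nat :=
  Nat.xor (comb M v 0) (omg (comb M (Nat.shiftRight v 78) 0))

/-- A product, computed completely before it is used. -/
noncomputable def mulK {α : Type} (A B : List Nat) (k : List Nat → α) : α :=
  List.rec (motive := fun _ => (List Nat → α) → α) (fun k => k [])
    (fun c _ ih k => force (mv A c) fun x => ih fun l => k (x :: l)) B k

/-- Equality of lists. -/
noncomputable def eqB (A B : List Nat) : Bool :=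
  List.rec (motive := fun _ => List Nat → Bool) (fun B => B.isEmpty)
    (fun r _ ih B => Nat.beq (B.headD 0) r && (!B.isEmpty && ih B.tail)) A B

/-- The identity. -/
def idM : List Nat := (List.range 78).map fun k => 1 <<< k

/-- A column times a scalar, coded by `0, 1, 2, 3` for `0, 1, w, 1 + w`. -/
noncomputable def scl (s P : Nat) : Nat :=
  Nat.xor (cond (Nat.beq (Nat.mod s 2) 0) 0 P) (cond (Nat.beq (Nat.mod (Nat.div s 2) 2) 0) 0 (omg P))

/-- A product of matrices in a list. -/
noncomputable def wordK {α : Type} (G : Nat → List Nat) (w : List Nat) (P : List Nat) (k : List Nat → α) : α :=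
  List.rec (motive := fun _ => List Nat → α) (fun P => k P)
    (fun x _ ih P => mulK P (G x) ih) w P

/-- A matrix times a power of another is the identity. -/
noncomputable def powB (P : List Nat) (m : Nat) (Q : List Nat) : Bool :=
  Nat.rec (motive := fun _ => List Nat → Bool) (fun Q => eqB Q idM) (fun _ ih Q => mulK Q P ih) m Q

/-- The `m + 1`-st power of a word is trivial. -/
noncomputable def relB (G : Nat → List Nat) (x : Nat) (w : List Nat) (m : Nat) : Bool :=
  wordK G w (G x) fun P => powB P m P

/-- The sum of two matrices. -/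
noncomputable def addM (A B : List Nat) : List Nat := List.zipWith Nat.xor A B

/-! ## Meaning -/

variable {K : Type*} [Field K]

/-- A bit as an element of the field. -/
def bv (b : Bool) : K := if b then 1 else 0

@[simp] theorem bv_true : (bv true : K) = 1 := rfl

@[simp] theorem bv_false : (bv false : K) = 0 := rfl

/-- The entry `i` of a column. -/
def val (w : K) (P i : Nat) : K := bv (P.testBit i) + bv (P.testBit (78 + i)) * w

/-- The value of a coded scalar. -/
def sval (w : K) (s : Nat) : K := bv (s.testBit 0) + bv (s.testBit 1) * w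

theorem val_zero (w : K) (i : Nat) : val w 0 i = 0 := by simp [val]

theorem bv_xor [CharP K 2] (a b : Bool) : (bv (a ^^ b) : K) = bv a + bv b := by
  cases a <;> cases b <;> simp [CharTwo.add_self_eq_zero]

theorem val_xor [CharP K 2] (w : K) (P Q i : Nat) :
    val w (Nat.xor P Q) i = val w P i + val w Q i := by
  change val w (P ^^^ Q) i = _
  simp only [val, Nat.testBit_xor, bv_xor]
  ring

theorem tb_omg_low (P : Nat) {i : Nat} (hi : i < 78) : (omg P).testBit i = P.testBit (78 + i) := by
  change ((P >>> 78 &&& mask78) ^^^ ((P ^^^ P >>> 78) &&& mask78) <<< 78).testBit i = _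
  simp [Nat.testBit_xor, Nat.testBit_shiftLeft, Nat.testBit_shiftRight, mask_bit,
    hi, show ¬ 78 ≤ i by omega, Nat.testBit_and]

theorem tb_omg_high (P : Nat) {i : Nat} (hi : i < 78) :
    (omg P).testBit (78 + i) = (P.testBit i ^^ P.testBit (78 + i)) := by
  change ((P >>> 78 &&& mask78) ^^^ ((P ^^^ P >>> 78) &&& mask78) <<< 78).testBit (78 + i) = _
  simp [Nat.testBit_xor, Nat.testBit_shiftLeft, Nat.testBit_shiftRight, mask_bit,
    hi, Nat.testBit_and]

theorem val_omg [CharP K 2] {w : K} (hw : w ^ 2 = w + 1) (P : Nat) {i : Nat} (hi : i < 78) :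
    val w (omg P) i = w * val w P i := by
  simp only [val, tb_omg_low P hi, tb_omg_high P hi, bv_xor]
  linear_combination (-(bv (P.testBit (78 + i)))) * hw

theorem val_scl [CharP K 2] {w : K} (hw : w ^ 2 = w + 1) (s P : Nat) {i : Nat} (hi : i < 78) :
    val w (scl s P) i = sval w s * val w P i := by
  have e0 : Nat.beq (Nat.mod s 2) 0 = !s.testBit 0 := by
    rw [Nat.testBit_zero]
    change Nat.beq (s % 2) 0 = _
    rcases Nat.mod_two_eq_zero_or_one s with h | h <;> rw [h] <;> rfl
  have e1 : Nat.beq (Nat.mod (Nat.div s 2) 2) 0 = !s.testBit 1 := by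
    rw [Nat.testBit_succ, Nat.testBit_zero]
    change Nat.beq (s / 2 % 2) 0 = _
    rcases Nat.mod_two_eq_zero_or_one (s / 2) with h | h <;> rw [h] <;> rfl
  rw [scl, val_xor, e0, e1, sval]
  cases s.testBit 0 <;> cases s.testBit 1 <;> simp [val_zero, val_omg hw P hi, add_mul]

theorem comb_spec [CharP K 2] (w : K) (i : Nat) : ∀ (M : List Nat) (v acc : Nat),
    val w (comb M v acc) i =
      val w acc i + ∑ k ∈ Finset.range M.length, bv (v.testBit k) * val w (M.getD k 0) i
  | [], _, _ => by simp [comb]
  | c :: M, v, acc => by
    show val w (force (cond (Nat.beq (Nat.mod v 2) 0) acc (Nat.xor acc c)) fun a =>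
      force (Nat.div v 2) fun v' => comb M v' a) i = _
    rw [force_eq, force_eq, comb_spec w i M, List.length_cons, Finset.sum_range_succ']
    simp only [List.getD_cons_succ, List.getD_cons_zero, Nat.testBit_succ]
    have hb : val w (cond (Nat.beq (Nat.mod v 2) 0) acc (Nat.xor acc c)) i =
        val w acc i + bv (v.testBit 0) * val w c i := by
      rw [Nat.testBit_zero]
      change val w (cond (Nat.beq (v % 2) 0) acc (Nat.xor acc c)) i = _
      rcases Nat.mod_two_eq_zero_or_one v with h | h <;> rw [h]
      · simp
      · rw [show Nat.beq 1 0 = false from rfl, cond_false, val_xor, decide_eq_true rfl, bv_true, one_mul]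
    rw [hb]
    change val w acc i + bv (v.testBit 0) * val w c i +
      ∑ k ∈ Finset.range M.length, bv ((v / 2).testBit k) * val w (M.getD k 0) i = _
    ring

theorem mv_spec [CharP K 2] {w : K} (hw : w ^ 2 = w + 1) {M : List Nat} (hM : M.length = 78)
    (v : Nat) {i : Nat} (hi : i < 78) :
    val w (mv M v) i = ∑ k ∈ Finset.range 78, val w (M.getD k 0) i * val w v k := by
  rw [mv, val_xor, val_omg hw _ hi, comb_spec, comb_spec, val_zero, zero_add, zero_add, hM,
    Finset.mul_sum, ← Finset.sum_add_distrib]
  refine Finset.sum_congr rfl fun k _ => ?_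
  change _ + w * (bv ((v >>> 78).testBit k) * _) = _
  rw [Nat.testBit_shiftRight]
  simp only [val]
  ring

theorem mulK_eq {α : Type} (A : List Nat) : ∀ (B : List Nat) (k : List Nat → α),
    mulK A B k = k (B.map (mv A))
  | [], _ => rfl
  | c :: B, k => by
    show force (mv A c) (fun x => mulK A B fun l => k (x :: l)) = _
    rw [force_eq, mulK_eq A B]
    rfl

theorem eqB_spec : ∀ (A B : List Nat), eqB A B = true → B = A
  | [], B, h => List.isEmpty_iff.1 h
  | r :: A, B, h => by
    change (Nat.beq (B.headD 0) r && (!B.isEmpty && eqB A B.tail)) = true at h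
    simp only [Bool.and_eq_true, Bool.not_eq_true'] at h
    cases B with
    | nil => simp at h
    | cons b B => rw [eqB_spec A B h.2.2, show b = r from Nat.eq_of_beq_eq_true h.1]

theorem idM_length : idM.length = 78 := by simp [idM]

theorem val_idM (w : K) {k i : Nat} (hk : k < 78) (hi : i < 78) :
    val w (idM.getD k 0) i = if i = k then 1 else 0 := by
  rw [idM, List.getD_eq_getElem _ _ (by simpa using hk)]
  simp only [List.getElem_map, List.getElem_range, Nat.one_shiftLeft, val,
    Nat.testBit_two_pow, show k ≠ 78 + i by omega, decide_false, bv_false, zero_mul, add_zero]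
  by_cases h : i = k
  · subst h; simp
  · simp [h, Ne.symm h]

end Cfsg.Agent.E6Fi22
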