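import Cfsg.Agent.E6Fi22.CheckBase
import Cfsg.Agent.E6Fi22.CheckRel
import Cfsg.Agent.E6Fi22.CheckIrr
import Cfsg.Agent.CosetCert.Fi22Order.Main
import Cfsg.Prelude.Def_LieTwisted
import Mathlib.LinearAlgebra.Matrix.GeneralLinearGroup.Defs

/-!
# `Fi22` inside `2E6(2)`, absolutely irreducible on the 78-dimensional Lie algebra
-/

set_option autoImplicit false
set_option maxRecDepth 100000

namespace Cfsg.Agent.E6Fi22

open Cfsg.Lie Cfsg.Spor Cfsg.Agent.Chev Cfsg.Agent.CosetCert
open scoped MatrixGroups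

theorem good_of {L : Nat → List Nat} {n : Nat}
    (h : (List.range (n + 1)).all (fun x => (L x).length == 78) = true)
    (hd : ∀ x, n ≤ x → L x = L n) : Good L := fun x => by
  have key : ∀ y, y < n + 1 → (L y).length = 78 := fun y hy =>
    beq_iff_eq.1 (List.all_eq_true.1 h y (List.mem_range.2 hy))
  by_cases hx : x < n + 1
  · exact key x hx
  · rw [hd x (by omega)]; exact key n (by omega)

theorem good_xm : Good xm := good_of (n := 20) len_base.1 fun x hx => by
  simp only [xm]; rw [List.getD_eq_default _ _ (by simpa using hx)]; rfl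

theorem good_bm : Good bm := good_of (n := 12) len_base.2.1 fun x hx => by
  simp only [bm]; rw [List.getD_eq_default _ _ (by simpa using hx)]; rfl

theorem good_gw : Good gw := good_of (n := 9) len_base.2.2.1 fun x hx => by
  simp only [gw]; rw [List.getD_eq_default _ _ (by simpa using hx)]; rfl

theorem good_xg : Good xg := good_of (n := 9) len_base.2.2.2 fun x hx => by
  simp only [xg]; rw [List.getD_eq_default _ _ (by simpa using hx)]; rfl

universe u

variable {K : Type u} [Field K] [CharP K 2] {w : K} (hw : w ^ 2 = w + 1)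

include hw in
theorem xm_spec {x : Nat} (hx : x < 20) :
    toMat w (xm x) = chevE6.x K (xs.getD x (0, 0)).1 (sval w (xs.getD x (0, 0)).2) := by
  have h := List.all_eq_true.1 xm_ok x (List.mem_range.2 hx)
  simp only [Bool.and_eq_true] at h
  obtain ⟨⟨hr, hs⟩, h⟩ := h
  have hn : chevE6.nroots = 72 := by decide +kernel
  have h1 := Nat.le_of_ble_eq_true hr
  have h2 := Nat.le_of_ble_eq_true hs.1
  have h3 := Nat.le_of_ble_eq_true hs.2
  exact xChk_spec hw (by omega) (by omega) h

theorem bw_shape : ∀ x ∈ List.range 12, (∀ i ∈ bw.getD x [], i < 20) ∧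
    ((∃ r ∈ [e6p2, e6m2, e6p4, e6m4], (bw.getD x []).map (fun i => xs.getD i (0, 0)) = [(r, 1)]) ∨
    ∃ rs ∈ [(e6p1, e6p6), (e6m1, e6m6), (e6p3, e6p5), (e6m3, e6m5)], ∃ s ∈ [1, 2, 3],
      (bw.getD x []).map (fun i => xs.getD i (0, 0)) = [(rs.1, s), (rs.2, sPow s 2)]) := by
  decide +kernel

include hw in
/-- The twelve generators are matrices of generating words. -/
theorem bm_word {x : Nat} (hx : x < 12) :
    ∃ l ∈ e6Words K 2, toMat w (bm x) = chevE6.wordMat K l := by
  have h := List.all_eq_true.1 bm_ok x (List.mem_range.2 hx)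
  rw [Bool.and_eq_true] at h
  obtain ⟨hi, hsh⟩ := bw_shape x (List.mem_range.2 hx)
  have e : toMat w (bm x) = chevE6.wordMat K
      (((bw.getD x []).map fun i => xs.getD i (0, 0)).map fun p => (p.1, sval w p.2)) := by
    rw [wordB_spec hw good_xm h.1, ChevalleyDatum.wordMat, List.map_map, List.map_map]
    exact congrArg List.prod (List.map_congr_left fun i hi' => xm_spec hw (hi i hi'))
  refine ⟨_, ?_, e⟩
  rcases hsh with ⟨r, hr, e'⟩ | ⟨rs, hrs, s, hs, e'⟩ <;> rw [e']
  · exact Or.inl ⟨1, one_pow 2, r, hr, by simp [sval, Nat.testBit_succ]⟩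
  · refine Or.inr ⟨sval w s, rs, hrs, ?_⟩
    simp [sval_sPow hw (s := s) (by simpa using hs) 2]

include hw in
theorem bm_sq {x : Nat} (hx : x < 12) : toMat w (bm x) * toMat w (bm x) = 1 := by
  have h := List.all_eq_true.1 bm_ok x (List.mem_range.2 hx)
  rw [Bool.and_eq_true, mulK_eq] at h
  rw [← toMat_mul hw (good_bm x) (good_bm x), ← eqB_spec _ idM h.2, toMat_idM]

include hw in
theorem xg_sq {x : Nat} (hx : x < 9) : toMat w (xg x) * toMat w (xg x) = 1 := by
  have h := List.all_eq_true.1 xg_ok x (List.mem_range.2 hx)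
  simp only [Bool.and_eq_true, mulK_eq] at h
  rw [← toMat_mul hw (good_xg x) (good_xg x), ← eqB_spec _ idM h.2, toMat_idM]

theorem gwords_lt : ∀ x ∈ List.range 9, ∀ i ∈ gwords.getD x [], i < 12 := by decide +kernel

/-- A generator as a unit. -/
noncomputable def bu (x : Nat) : GL chevE6.Idx K :=
  if hx : x < 12 then ⟨toMat w (bm x), toMat w (bm x), bm_sq hw hx, bm_sq hw hx⟩ else 1

/-- One of the nine involutions as a unit. -/
noncomputable def xu (x : Fin 9) : GL chevE6.Idx K :=
  ⟨toMat w (xg x), toMat w (xg x), xg_sq hw x.2, xg_sq hw x.2⟩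

theorem bu_mem (x : Nat) : bu hw x ∈ twistedE6 K 2 := by
  unfold bu
  split
  · rename_i hx
    obtain ⟨l, hl, e⟩ := bm_word hw hx
    exact Subgroup.subset_closure ⟨l, hl, e⟩
  · exact one_mem _

theorem bu_val {x : Nat} (hx : x < 12) :
    (bu hw x : Matrix chevE6.Idx chevE6.Idx K) = toMat w (bm x) := by
  rw [bu, dif_pos hx]

theorem xu_mem (x : Fin 9) : xu hw x ∈ twistedE6 K 2 := by
  have hx : (x : Nat) ∈ List.range 9 := List.mem_range.2 x.2
  have hgw : wordK bm (gwords.getD x []) idM (fun P => eqB P (gw x)) = true := by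
    by_cases h5 : (x : Nat) < 5
    · exact List.all_eq_true.1 gw_ok0 x (List.mem_range.2 h5)
    · have := List.all_eq_true.1 gw_ok1 ((x : Nat) - 5) (List.mem_range.2 (by have := x.2; omega))
      rwa [show 5 + ((x : Nat) - 5) = x by omega] at this
  set g : GL chevE6.Idx K := ((gwords.getD x []).map (bu hw)).prod with hg
  have hgv : (g : Matrix chevE6.Idx chevE6.Idx K) = toMat w (gw x) := by
    rw [wordB_spec hw good_bm hgw, hg, ← Units.coeHom_apply, map_list_prod, List.map_map]
    exact congrArg List.prod (List.map_congr_left fun i hi => bu_val hw (gwords_lt x hx i hi))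
  have h := List.all_eq_true.1 xg_ok x hx
  simp only [Bool.and_eq_true, mulK_eq] at h
  have e : xu hw x * g = g * bu hw 0 := by
    apply Units.ext
    rw [Units.val_mul, Units.val_mul, hgv, bu_val hw (by decide)]
    show toMat w (xg x) * _ = _
    rw [← toMat_mul hw (good_xg x) (good_gw x), ← toMat_mul hw (good_gw x) (good_bm 0),
      eqB_spec _ _ h.1]
  have hgm : g ∈ twistedE6 K 2 := Subgroup.list_prod_mem _ fun y hy => by
    obtain ⟨i, -, rfl⟩ := List.mem_map.1 hy
    exact bu_mem hw i
  rw [show xu hw x = g * bu hw 0 * g⁻¹ from eq_mul_inv_of_mul_eq e]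
  exact mul_mem (mul_mem hgm (bu_mem hw 0)) (inv_mem hgm)

/-- The number of a letter. -/
def num : Fi22.Gen → Fin 9
  | .a => 0
  | .b => 1
  | .c => 2
  | .d => 3
  | .e => 4
  | .f => 5
  | .g => 6
  | .h => 7
  | .i => 8

theorem lbl_eq (a b : Fi22.Gen) :
    0 < coxLabel Fi22.edges a b ∧ lbl (num a) (num b) = coxLabel Fi22.edges a b := by
  cases a <;> cases b <;> decide +kernel

theorem pair_rel (a b : Fi22.Gen) :
    (xu hw (num a) * xu hw (num b)) ^ coxLabel Fi22.edges a b = 1 := by
  obtain ⟨hpos, e⟩ := lbl_eq a b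
  obtain ⟨hpos', e'⟩ := lbl_eq b a
  have key : ∀ x y : Fin 9, (y : Nat) ≤ x → 0 < lbl x y → (xu hw x * xu hw y) ^ lbl x y = 1 := by
    intro x y hxy hp
    obtain ⟨m, hm⟩ : ∃ m, lbl x y = m + 1 := ⟨_, (Nat.sub_add_cancel hp).symm⟩
    have h := List.all_eq_true.1 (List.all_eq_true.1 pairs_ok x (List.mem_range.2 x.2)) y
      (List.mem_range.2 (by omega))
    rw [hm, Nat.add_sub_cancel] at h
    rw [hm]
    apply Units.ext
    rw [Units.val_pow_eq_pow_val, Units.val_mul, Units.val_one]
    simpa [xu] using rel_spec hw good_xg h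
  rcases le_total (num b : Nat) (num a) with h | h
  · rw [← e]; exact key _ _ h (e ▸ hpos)
  · have hs : coxLabel Fi22.edges a b = coxLabel Fi22.edges b a := by
      rw [← e, ← e', lbl, lbl, min_comm, max_comm]
      by_cases h' : (num a : Nat) = num b
      · rw [if_pos h', if_pos h'.symm]
      · rw [if_neg h', if_neg (Ne.symm h')]
    have e2 : xu hw (num a) * xu hw (num b) =
        xu hw (num a) * (xu hw (num b) * xu hw (num a)) * (xu hw (num a))⁻¹ := by group
    rw [e2, conj_pow, hs, ← e', key _ _ h (e' ▸ hpos')]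
    group

include hw in
/-- The presented `Fi22` inside `2E6(2)`. -/
theorem exists_hom : ∃ f : Fi22 →* GL chevE6.Idx K, Function.Injective f ∧
    (∀ y, f y ∈ twistedE6 K 2) ∧ ∀ a : Fi22.Gen, f (PresentedGroup.of a) = xu hw (num a) := by
  have hr : ∀ r ∈ coxRelators Fi22.edges ∪ {r | r ∈ Fi22.extra},
      FreeGroup.lift (fun a => xu hw (num a)) r = 1 := by
    rintro r (⟨a, -, b, -, rfl⟩ | hr)
    · rw [map_pow, map_mul, FreeGroup.lift_apply_of, FreeGroup.lift_apply_of]
      exact pair_rel hw a b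
    · simp only [Set.mem_ofPred_eq, Fi22.extra, List.mem_cons, List.not_mem_nil, or_false] at hr
      rcases hr with rfl | rfl | rfl <;> apply Units.ext <;>
        simp only [map_pow, map_mul, FreeGroup.lift_apply_of, Units.val_pow_eq_pow_val,
          Units.val_mul, Units.val_one]
      · simpa [mul_assoc, num, xu] using rel_spec hw good_xg spider_ok
      · simpa [mul_assoc, num, xu] using rel_spec hw good_xg seven1_ok
      · simpa [mul_assoc, num, xu] using rel_spec hw good_xg seven2_ok
  let f : Fi22 →* GL chevE6.Idx K := PresentedGroup.toGroup hr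
  have hof : ∀ a : Fi22.Gen, f (PresentedGroup.of a) = xu hw (num a) := fun a =>
    PresentedGroup.toGroup.of hr
  refine ⟨f, ?_, fun y => ?_, hof⟩
  · have hsimple : IsSimpleGroup Fi22 := Fi22Order.order_and_simple.1
    rcases f.normal_ker.eq_bot_or_eq_top with h | h
    · exact (MonoidHom.ker_eq_bot_iff _).1 h
    exfalso
    have h1 : xu hw 0 = 1 :=
      (hof .a).symm.trans (MonoidHom.mem_ker.1 (h ▸ Subgroup.mem_top _))
    have h2 : toMat w (xg 0) = toMat w idM := (congrArg Units.val h1).trans (toMat_idM w).symm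
    obtain ⟨k, hk, i, hi, hne⟩ : ∃ k < 78, ∃ i < 78, i ≠ k ∧
        (((xg 0).getD k 0).testBit i ≠ false ∨ ((xg 0).getD k 0).testBit (78 + i) ≠ false) := by
      decide +kernel
    obtain ⟨i', rfl⟩ := exists_enc chevE6 (c := i) (dim_e6.symm ▸ hi)
    obtain ⟨k', rfl⟩ := exists_enc chevE6 (c := k) (dim_e6.symm ▸ hk)
    have h3 : val w ((xg 0).getD (enc chevE6 k') 0) (enc chevE6 i') = 0 := by
      have := congrFun (congrFun h2 i') k'
      change val w _ _ = val w _ _ at this
      rw [this, val_idM w hk hi, if_neg hne.1]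
    have hw1 : w ≠ 0 := fun e => by simp [e] at hw
    have hw2 : (1 : K) + w ≠ 0 := fun e => by
      have h0 : w = 1 := (CharTwo.add_eq_zero.1 e).symm
      rw [h0, one_pow, CharTwo.add_self_eq_zero] at hw
      exact one_ne_zero hw
    generalize (xg 0).getD (enc chevE6 k') 0 = P at h3 hne
    rcases hne.2 with hb | hb <;> simp only [ne_eq, Bool.not_eq_false] at hb <;>
      simp only [val, hb, bv_true] at h3
    · cases hc : P.testBit (78 + enc chevE6 i') <;> simp [hc, hw2] at h3
    · cases hc : P.testBit (enc chevE6 i') <;> simp [hc, hw1, hw2] at h3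
  · refine (?_ : (⊤ : Subgroup Fi22) ≤ (twistedE6 K 2).comap f) (Subgroup.mem_top y)
    rw [← PresentedGroup.closure_range_of, Subgroup.closure_le]
    rintro _ ⟨a, rfl⟩
    show f (PresentedGroup.of a) ∈ twistedE6 K 2
    rw [hof]
    exact xu_mem hw _

include hw in
/-- Only scalars commute with the involutions `b, …, i`. -/
theorem irreducible {C : Matrix chevE6.Idx chevE6.Idx K}
    (hC : ∀ x : Fin 9, x ≠ 0 → Commute C (xu hw x : Matrix chevE6.Idx chevE6.Idx K)) :
    ∃ l : K, C = l • 1 := by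
  have hl := len_irr
  simp only [Bool.and_eq_true, beq_iff_eq] at hl
  obtain ⟨⟨⟨⟨⟨⟨⟨⟨hp0, hp1⟩, hp2⟩, ha⟩, hlm⟩, hsp⟩, hdm⟩, hv⟩, hpar⟩ := hl
  have hgen : ∀ x, 1 ≤ x → x < 9 → Commute C (toMat w (xg x)) := fun x h1 h9 =>
    hC ⟨x, h9⟩ fun e => by simp [Fin.ext_iff] at e; omega
  have hpw : ∀ l, (l.all fun x => Nat.ble 1 x && Nat.blt x 9) = true → ∀ P,
      wordK xg l idM (fun Q => eqB Q P) = true → Commute C (toMat w P) := fun l hall P h => by
    rw [wordB_spec hw good_xg h]
    refine Commute.list_prod_right _ _ fun m hm => ?_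
    obtain ⟨x, hx, rfl⟩ := List.mem_map.1 hm
    have := List.all_eq_true.1 hall x hx
    simp only [Bool.and_eq_true] at this
    exact hgen x (Nat.le_of_ble_eq_true this.1) (Nat.le_of_ble_eq_true this.2)
  obtain ⟨hl01, hl2⟩ : ((pw0 ++ pw1).all fun x => Nat.ble 1 x && Nat.blt x 9) = true ∧
      (pw2.all fun x => Nat.ble 1 x && Nat.blt x 9) = true := by
    have := letters_ok
    rwa [List.all_append, Bool.and_eq_true] at this
  rw [List.all_append, Bool.and_eq_true] at hl01
  have hA : Commute C (toMat w am) := by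
    have e := eqB_spec _ _ am_ok
    rw [← e, toMat_addM (by simp [addM, hp0, hp1]) (by simp [hp2]), toMat_addM (by simp [hp0])
      (by simp [hp1]), toMat_scl hw _ hp0, toMat_scl hw _ hp1, toMat_scl hw _ hp2]
    exact (((hpw _ hl01.1 _ pm0_ok).smul_right _).add_right
      ((hpw _ hl01.2 _ pm1_ok).smul_right _)).add_right ((hpw _ hl2 _ pm2_ok).smul_right _)
  set v : chevE6.Idx → K := toVec w vk with hvdef
  have hker : (toMat w am).mulVec v = 0 := by
    rw [hvdef, ← toVec_mv hw ha, Nat.eq_of_beq_eq_true ker_ok]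
    funext i; exact val_zero w _
  set V : List Nat := vsc.map fun s => scl s vk with hV
  have hsum : toMat w lm * toMat w am + toMat w V = 1 := by
    have := left_ok
    rw [mulK_eq] at this
    rw [← toMat_mul hw hlm ha, ← toMat_addM (by simp [ha]) (by simp [hV, hv]),
      eqB_spec _ _ this, toMat_idM]
  have hrank : ∀ u : chevE6.Idx → K, (toMat w am).mulVec u = 0 → ∃ c : K, u = c • v := by
    intro u hu
    refine ⟨∑ j, sval w (vsc.getD (enc chevE6 j) 0) * u j, ?_⟩
    have hu1 : (toMat w lm * toMat w am + toMat w V).mulVec u = u := by rw [hsum, Matrix.one_mulVec]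
    rw [Matrix.add_mulVec, ← Matrix.mulVec_mulVec, hu, Matrix.mulVec_zero, zero_add] at hu1
    conv_lhs => rw [← hu1]
    funext i
    simp only [Matrix.mulVec, dotProduct, Pi.smul_apply, smul_eq_mul, Finset.sum_mul]
    refine Finset.sum_congr rfl fun j _ => ?_
    have hj : enc chevE6 j < vsc.length := hv.symm ▸ enc_lt78 j
    show val w (V.getD (enc chevE6 j) 0) (enc chevE6 i) * u j = _ * val w vk (enc chevE6 i)
    rw [List.getD_eq_getElem V 0 (by simpa [hV] using hj), List.getD_eq_getElem _ _ hj]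
    simp only [hV, List.getElem_map, val_scl hw _ _ (enc_lt78 i)]
    ring
  obtain ⟨l, hCv⟩ := hrank (C.mulVec v) (by
    rw [Matrix.mulVec_mulVec, ← hA.eq, ← Matrix.mulVec_mulVec, hker, Matrix.mulVec_zero])
  refine ⟨l, ?_⟩
  have hk : ∀ k, k < 78 → C.mulVec (toVec w (span.getD k 0)) = l • toVec w (span.getD k 0) := by
    intro k
    induction k using Nat.strong_induction_on with
    | _ k ih =>
      intro hk78
      rcases k with _ | k
      · rw [Nat.eq_of_beq_eq_true span_ok.1]
        exact hCv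
      · have h := List.all_eq_true.1 span_ok.2 k (List.mem_range.2 (by omega))
        simp only [Bool.and_eq_true] at h
        obtain ⟨⟨hq, hx1, hx9⟩, he⟩ := h
        have hq' := Nat.le_of_ble_eq_true hq
        rw [← Nat.eq_of_beq_eq_true he, toVec_mv hw (good_xg _), Matrix.mulVec_mulVec,
          (hgen _ (Nat.le_of_ble_eq_true hx1) (Nat.le_of_ble_eq_true hx9)).eq, ← Matrix.mulVec_mulVec,
          ih _ (by omega) (by omega), Matrix.mulVec_smul]
  have hWD : toMat w span * toMat w dm = 1 := by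
    have := dm_ok
    rw [mulK_eq] at this
    rw [← toMat_mul hw hsp hdm, ← eqB_spec _ idM this, toMat_idM]
  have hCW : C * toMat w span = l • toMat w span := by
    ext i j
    exact congrFun (hk (enc chevE6 j) (enc_lt78 j)) i
  rw [← mul_one C, ← hWD, ← mul_assoc, hCW, Matrix.smul_mul]

end Cfsg.Agent.E6Fi22
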